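import Groth.Agent.Lib.CartierDescent.Normal
import Groth.Agent.Lib.BlowUp.StalkIdeal
import Groth.Agent.Lib.QCoh.Pieces
import Groth.Agent.Lib.Snapper.DimLT
import Mathlib.RingTheory.Ideal.KrullsHeightTheorem

/-!
# The divisorial part of a closed subscheme
-/

set_option autoImplicit false
set_option linter.all false

universe u

open CategoryTheory AlgebraicGeometry TopologicalSpace IsLocalRing

noncomputable section

namespace GrothLib.DivPart

open GrothLib.CartierDescent (stalkIdeal stalkIdeal_eq stalkIdeal_eq_top_iff stalkIdeal_map_specializes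
  exists_stalk_generator exists_of_mem_span_stalkSpecializes stalkIdeal_comap)
open GrothLib.BlowUp (exists_affine_mem_le)

section Algebra

variable {A : Type*} [CommRing A]

theorem mem_span_pow_of_mul_mem {t : A} (ht : t ∈ nonZeroDivisors A) (hp : (Ideal.span {t}).IsPrime) {s : A}
    (hs : s ∉ Ideal.span {t}) : ∀ {n : ℕ} {f : A}, s * f ∈ Ideal.span {t ^ n} → f ∈ Ideal.span {t ^ n}
  | 0, f, _ => by simp
  | n + 1, f, h => by
    obtain ⟨g, rfl⟩ := Ideal.mem_span_singleton.1 ((hp.mem_or_mem (Ideal.mem_span_singleton.2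
      ((dvd_pow_self t n.succ_ne_zero).trans (Ideal.mem_span_singleton.1 h)))).resolve_left hs)
    have h1 : s * g ∈ Ideal.span {t ^ n} := by
      obtain ⟨c, hc⟩ := Ideal.mem_span_singleton.1 h
      refine Ideal.mem_span_singleton.2 ⟨c, (mul_cancel_left_mem_nonZeroDivisors ht).1 ?_⟩
      linear_combination hc
    obtain ⟨c, hc⟩ := Ideal.mem_span_singleton.1 (mem_span_pow_of_mul_mem ht hp hs h1)
    exact Ideal.mem_span_singleton.2 ⟨c, by rw [hc]; ring⟩

theorem span_eq_of_mem {t t' : A} (ht' : t' ∈ nonZeroDivisors A) (hp : (Ideal.span {t'}).IsPrime)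
    (hne : Ideal.span {t} ≠ ⊤) (h : t' ∈ Ideal.span {t}) : Ideal.span {t'} = Ideal.span {t} := by
  refine le_antisymm ((Ideal.span_singleton_le_iff_mem _).2 h) ((Ideal.span_singleton_le_iff_mem _).2 ?_)
  obtain ⟨r, hr⟩ := Ideal.mem_span_singleton.1 h
  rcases hp.mem_or_mem (show t * r ∈ Ideal.span {t'} from hr ▸ Ideal.mem_span_singleton_self t') with h1 | h1
  · exact h1
  · exfalso
    obtain ⟨s, hs⟩ := Ideal.mem_span_singleton.1 h1
    refine hne (Ideal.span_singleton_eq_top.2 (IsUnit.of_mul_eq_one s ?_))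
    rw [hs] at hr
    refine (mul_cancel_left_mem_nonZeroDivisors ht').1 (show t' * (t * s) = t' * 1 from ?_)
    linear_combination -hr

theorem mem_span_prod {ι : Type*} (S : Finset ι) (t : ι → A) (a : ι → ℕ) (f : A)
    (ht : ∀ j ∈ S, t j ∈ nonZeroDivisors A) (hp : ∀ j ∈ S, (Ideal.span {t j}).IsPrime ∨ IsUnit (t j))
    (hne : ∀ j ∈ S, ∀ l ∈ S, ¬ IsUnit (t j) → ¬ IsUnit (t l) → Ideal.span {t j} = Ideal.span {t l} → j = l)
    (hf : ∀ j ∈ S, f ∈ Ideal.span {t j ^ a j}) : f ∈ Ideal.span {∏ j ∈ S, t j ^ a j} := by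
  classical
  induction S using Finset.induction_on with
  | empty => simp
  | insert i S hi ih =>
    have hsub : ∀ j ∈ S, j ∈ insert i S := fun j hj => Finset.mem_insert_of_mem hj
    obtain ⟨g, hg⟩ := Ideal.mem_span_singleton.1 (ih (fun j hj => ht j (hsub j hj)) (fun j hj => hp j (hsub j hj))
      (fun j hj l hl => hne j (hsub j hj) l (hsub l hl)) fun j hj => hf j (hsub j hj))
    rw [Finset.prod_insert hi, Ideal.mem_span_singleton]
    rcases hp i (Finset.mem_insert_self i S) with hpi | hu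
    · have hs : (∏ j ∈ S, t j ^ a j) ∉ Ideal.span {t i} := fun h => by
        haveI := hpi
        obtain ⟨j, hj, hjm⟩ := Ideal.IsPrime.prod_mem_iff.1 h
        have hjm' := hpi.mem_of_pow_mem _ hjm
        have hnu : ¬ IsUnit (t j) := fun hu => hpi.ne_top (Ideal.eq_top_of_isUnit_mem _ hjm' hu)
        have hiu : ¬ IsUnit (t i) := fun hu => hpi.ne_top (Ideal.span_singleton_eq_top.2 hu)
        exact hi (hne j (hsub j hj) i (Finset.mem_insert_self i S) hnu hiu
          (span_eq_of_mem (ht j (hsub j hj)) ((hp j (hsub j hj)).resolve_right hnu) hpi.ne_top hjm') ▸ hj)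
      obtain ⟨c, hc⟩ := Ideal.mem_span_singleton.1 (mem_span_pow_of_mul_mem (ht i (Finset.mem_insert_self i S)) hpi hs
        (hg ▸ hf i (Finset.mem_insert_self i S)))
      exact ⟨c, by rw [hg, hc]; ring⟩
    · rw [(hu.pow (a i)).mul_left_dvd]
      exact ⟨g, hg⟩

end Algebra

section Scheme

variable {X : Scheme.{u}}

/-- The stalk of an ideal sheaf, as a monoid homomorphism. -/
def stalkHom (x : X) : X.IdealSheafData →* Ideal (X.presheaf.stalk x) where
  toFun J := stalkIdeal J x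
  map_one' := by
    obtain ⟨V, hx, -⟩ := exists_affine_mem_le (W := (⊤ : X.Opens)) (x := x) trivial
    rw [stalkIdeal_eq _ V hx, show (1 : X.IdealSheafData) = ⊤ from rfl, Scheme.IdealSheafData.ideal_top, Pi.top_apply, Ideal.map_top]
    exact Ideal.one_eq_top.symm
  map_mul' I J := by
    obtain ⟨V, hx, -⟩ := exists_affine_mem_le (W := (⊤ : X.Opens)) (x := x) trivial
    rw [stalkIdeal_eq _ V hx, stalkIdeal_eq _ V hx, stalkIdeal_eq _ V hx, Scheme.IdealSheafData.ideal_mul,
      Pi.mul_apply, Ideal.map_mul]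

theorem le_of_stalkIdeal {I J : X.IdealSheafData} (h : ∀ x, stalkIdeal I x ≤ stalkIdeal J x) : I ≤ J :=
  fun V f hf => V.2.mem_ideal_iff.2 fun x hx => by
    rw [← stalkIdeal_eq J V hx]
    refine h x ?_
    rw [stalkIdeal_eq I V hx]
    exact Ideal.mem_map_of_mem _ hf

theorem stalkIdeal_mono {I J : X.IdealSheafData} (h : I ≤ J) (x : X) : stalkIdeal I x ≤ stalkIdeal J x := by
  obtain ⟨V, hx, -⟩ := exists_affine_mem_le (W := (⊤ : X.Opens)) (x := x) trivial
  rw [stalkIdeal_eq _ V hx, stalkIdeal_eq _ V hx]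
  exact Ideal.map_mono (h V)

/-- Stalkwise equality of ideals of finite type spreads to a neighbourhood. -/
theorem exists_nhd_stalkIdeal_eq [IsLocallyNoetherian X] {I J : X.IdealSheafData} (hle : I ≤ J) {x : X}
    (h : stalkIdeal I x = stalkIdeal J x) :
    ∃ V : X.Opens, x ∈ V ∧ ∀ y ∈ V, stalkIdeal I y = stalkIdeal J y := by
  classical
  obtain ⟨W, hx, -⟩ := exists_affine_mem_le (W := (⊤ : X.Opens)) (x := x) trivial
  haveI : IsNoetherianRing Γ(X, W.1) := IsLocallyNoetherian.component_noetherian W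
  let _ := TopCat.Presheaf.algebra_section_stalk X.presheaf (⟨x, hx⟩ : W.1)
  haveI := W.2.isLocalization_stalk ⟨x, hx⟩
  obtain ⟨G, hG⟩ := (isNoetherianRing_iff_ideal_fg _).1 inferInstance (J.ideal W)
  have key : ∀ g ∈ G, ∃ u, u ∉ (W.2.primeIdealOf ⟨x, hx⟩).asIdeal ∧ u * g ∈ I.ideal W := fun g hg => by
    have hgm : algebraMap Γ(X, W.1) (X.presheaf.stalk x) g ∈
        (I.ideal W).map (algebraMap Γ(X, W.1) (X.presheaf.stalk x)) := by
      show X.presheaf.germ W.1 x hx g ∈ (I.ideal W).map (X.presheaf.germ W.1 x hx).hom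
      rw [← stalkIdeal_eq I W hx, h, stalkIdeal_eq J W hx, ← hG]
      exact Ideal.mem_map_of_mem _ (Ideal.subset_span hg)
    exact (IsLocalization.algebraMap_mem_map_algebraMap_iff
      (W.2.primeIdealOf ⟨x, hx⟩).asIdeal.primeCompl _ _ _).1 hgm
  choose u hu hug using key
  let u₀ := ∏ g ∈ G.attach, u g.1 g.2
  have hu₀ : u₀ ∉ (W.2.primeIdealOf ⟨x, hx⟩).asIdeal := fun hm => by
    obtain ⟨g, -, hg⟩ := Ideal.IsPrime.prod_mem_iff.1 hm
    exact hu _ _ hg
  refine ⟨X.basicOpen u₀, (X.mem_basicOpen u₀ x hx).2 (IsLocalization.map_units (X.presheaf.stalk x)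
    (⟨u₀, hu₀⟩ : (W.2.primeIdealOf ⟨x, hx⟩).asIdeal.primeCompl)), fun y hy => ?_⟩
  refine le_antisymm (stalkIdeal_mono hle y) ?_
  have hyW : y ∈ W.1 := X.basicOpen_le u₀ hy
  rw [stalkIdeal_eq J W hyW, stalkIdeal_eq I W hyW, ← hG, Ideal.map_span, Ideal.span_le]
  rintro _ ⟨g, hg, rfl⟩
  refine (Ideal.unit_mul_mem_iff_mem _ ((X.mem_basicOpen u₀ y hyW).1 hy)).1 ?_
  rw [← map_mul]
  refine Ideal.mem_map_of_mem _ ?_
  show u₀ * g ∈ I.ideal W
  obtain ⟨c, hc⟩ := Finset.dvd_prod_of_mem (fun g : G => u g.1 g.2) (Finset.mem_attach G ⟨g, hg⟩)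
  rw [show u₀ = u g hg * c from hc, mul_right_comm]
  exact Ideal.mul_mem_right _ _ (hug g hg)

/-! ### An integral effective Cartier divisor -/

variable {D : X.IdealSheafData} [IsIntegral D.subscheme]

variable (D) in
/-- The generic point of an integral closed subscheme. -/
def gpt : X := D.subschemeι (genericPoint D.subscheme)

theorem gpt_specializes_iff {x : X} : gpt D ⤳ x ↔ x ∈ D.support := by
  rw [specializes_iff_mem_closure, gpt, QCoh.closure_singleton_eq_range, Scheme.IdealSheafData.range_subschemeι]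
  rfl

theorem gpt_mem_support : gpt D ∈ D.support := gpt_specializes_iff.1 specializes_rfl

theorem eq_of_gpt_eq {D' : X.IdealSheafData} [IsIntegral D'.subscheme] (h : gpt D = gpt D') : D = D' := by
  rw [← D.ker_subschemeι, ← D'.ker_subschemeι, QCoh.ker_eq_vanishingIdeal_closure,
    QCoh.ker_eq_vanishingIdeal_closure]
  congr 1
  exact Closeds.ext (congrArg (fun z => closure ({z} : Set X)) h)

theorem stalkIdeal_isPrime {x : X} (hx : x ∈ D.support) : (stalkIdeal D x).IsPrime := by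
  have hx' : x ∈ Set.range D.subschemeι := by rw [D.range_subschemeι]; exact hx
  obtain ⟨d, rfl⟩ := hx'
  obtain ⟨V, hxV, -⟩ := exists_affine_mem_le (W := (⊤ : X.Opens)) (x := D.subschemeι d) trivial
  rw [stalkIdeal_eq D V hxV, ← BlowUp.ker_stalkMap_subschemeι D d V hxV]
  exact RingHom.ker_isPrime _

theorem stalkIdeal_gpt : stalkIdeal D (gpt D) = maximalIdeal (X.presheaf.stalk (gpt D)) := by
  obtain ⟨V, hxV, -⟩ := exists_affine_mem_le (W := (⊤ : X.Opens)) (x := gpt D) trivial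
  rw [stalkIdeal_eq D V hxV]
  have h := BlowUp.ker_stalkMap_subschemeι D (genericPoint D.subscheme) V hxV
  refine Eq.trans h.symm ?_
  letI : Field (D.subscheme.presheaf.stalk (genericPoint D.subscheme)) :=
    (inferInstanceAs (Field D.subscheme.functionField))
  exact IsLocalRing.eq_maximalIdeal
    (RingHom.ker_isMaximal_of_surjective _ (BlowUp.surjective_stalkMap_subschemeι D (genericPoint D.subscheme)))

variable [IsLocallyNoetherian X] (hD : _root_.BlowUp.IsEffCartierIdeal D)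
include hD

theorem one_le_coheight_gpt : 1 ≤ Order.coheight (gpt D) := by
  rw [ENat.one_le_iff_ne_zero]
  intro h0
  have hdim : ringKrullDim (X.presheaf.stalk (gpt D)) = 0 := by rw [ringKrullDim_stalk_eq_coheight, h0]; rfl
  haveI : Ring.KrullDimLE 0 (X.presheaf.stalk (gpt D)) := Ring.krullDimLE_iff.2 hdim.le
  obtain ⟨t, ht, ht'⟩ := exists_stalk_generator hD (gpt D)
  have hm : t ∈ maximalIdeal (X.presheaf.stalk (gpt D)) := by
    rw [← stalkIdeal_gpt, ht']; exact Ideal.mem_span_singleton_self t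
  obtain ⟨n, hn⟩ := Ring.KrullDimLE.isNilpotent_iff_mem_nonunits.2 hm
  exact nonZeroDivisors.ne_zero (pow_mem ht n) hn

theorem coheight_gpt_le : Order.coheight (gpt D) ≤ 1 := by
  obtain ⟨t, ht, ht'⟩ := exists_stalk_generator hD (gpt D)
  have h : ringKrullDim (X.presheaf.stalk (gpt D)) ≤ (1 : ℕ) := by
    refine (ringKrullDim_le_spanFinrank_maximalIdeal _).trans ?_
    rw [← stalkIdeal_gpt, ht']
    have : (Ideal.span {t}).spanFinrank ≤ 1 :=
      (Submodule.spanFinrank_span_le_ncard_of_finite (Set.finite_singleton t)).trans (by simp)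
    exact_mod_cast this
  rw [ringKrullDim_stalk_eq_coheight] at h
  exact_mod_cast h

theorem eq_gpt_of_coheight_le {z : X} (hz : z ∈ D.support) (h : Order.coheight z ≤ 1) : z = gpt D := by
  by_contra hne
  have hsp : gpt D ⤳ z := gpt_specializes_iff.2 hz
  have hlt : z < gpt D := lt_of_le_not_ge hsp fun h' => hne ((hsp.antisymm (show z ⤳ gpt D from h')).eq).symm
  have h2 : (2 : ℕ∞) ≤ Order.coheight z :=
    le_trans (le_of_eq_of_le one_add_one_eq_two.symm (add_le_add (one_le_coheight_gpt hD) le_rfl))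
      (Order.coheight_add_one_le hlt)
  exact absurd (h2.trans h) (by decide)

end Scheme

/-! ### The main statement -/

theorem eq_zero_of_add_one_le {c : ℕ∞} (h : c + 1 ≤ 1) : c = 0 := by
  induction c using ENat.recTopCoe with
  | top => simp at h
  | coe n => norm_cast at h ⊢; omega

/-- A point of a closed subset has a maximal generization in it. -/
theorem exists_maximal_generization {X : Scheme.{u}} [NoetherianSpace X] {S : Set X} (hS : IsClosed S) {y : X}
    (hy : y ∈ S) : ∃ z ∈ S, z ⤳ y ∧ ∀ w ∈ S, w ⤳ z → w = z := by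
  classical
  obtain ⟨F, hF, hFcl, hFirr, hcov⟩ := NoetherianSpace.exists_finite_set_isClosed_irreducible hS
  have := hF.to_subtype
  choose η hη using fun C : F => QuasiSober.sober (hFirr C C.2) (hFcl C C.2)
  have hmem : ∀ C : F, η C ∈ S := fun C => hcov ▸ ⟨C, C.2, (hη C).mem⟩
  have hex : ∀ w ∈ S, ∃ C : F, η C ⤳ w := fun w hw => by
    rw [hcov] at hw
    obtain ⟨C, hC, hwC⟩ := hw
    exact ⟨⟨C, hC⟩, (hη ⟨C, hC⟩).specializes hwC⟩
  obtain ⟨C₀, hC₀⟩ := hex y hy
  obtain ⟨z, ⟨C, hC, rfl⟩, hmax⟩ := ((Set.toFinite {C : F | η C ⤳ y}).image η).exists_maximal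
    ⟨η C₀, C₀, hC₀, rfl⟩
  refine ⟨η C, hmem C, hC, fun w hw hwz => ?_⟩
  obtain ⟨C', hC'⟩ := hex w hw
  have h1 : η C ≤ η C' := (hC'.trans hwz : η C' ⤳ η C)
  have h2 : η C' ≤ η C := hmax ⟨C', (hC'.trans hwz).trans hC, rfl⟩ h1
  exact (Specializes.antisymm hwz ((show η C ⤳ η C' from h2).trans hC')).eq

variable {X : Scheme.{u}} [IsNoetherian X] (𝓩 : X.IdealSheafData)
  {I : Type u} (𝓓 : I → X.IdealSheafData) (hD : ∀ i, _root_.BlowUp.IsEffCartierIdeal (𝓓 i))
  [∀ i, IsIntegral (𝓓 i).subscheme]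
  (Z' : Set X) (hZ' : IsClosed Z')
  (hcodim : ∀ z ∈ Z', (∀ y ∈ Z', y ⤳ z → y = z) → (2 : WithBot ℕ∞) ≤ ringKrullDim ↑(X.presheaf.stalk z))
  (hcover : (𝓩.support : Set X) ⊆ Z' ∪ ⋃ i, ((𝓓 i).support : Set X))

include hZ' hcodim in
theorem two_le_coheight {y : X} (hy : y ∈ Z') : (2 : ℕ∞) ≤ Order.coheight y := by
  obtain ⟨z, hz, hzy, hmax⟩ := exists_maximal_generization hZ' hy
  have h := hcodim z hz hmax
  rw [ringKrullDim_stalk_eq_coheight] at h
  have h' : (2 : ℕ∞) ≤ Order.coheight z := WithBot.coe_le_coe.1 h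
  exact le_trans h' (Order.coheight_anti (hzy : y ≤ z))

include hD hZ' hcodim hcover in
/-- A point of `Z` not of codimension `≥ 2` is one of the generic points. -/
theorem exists_eq_gpt {z : X} (hz : z ∈ 𝓩.support) (h : Order.coheight z ≤ 1) : ∃ i, z = gpt (𝓓 i) := by
  rcases hcover hz with hz' | hz'
  · exact absurd ((two_le_coheight Z' hZ' hcodim hz').trans h) (by decide)
  · obtain ⟨i, hi⟩ := Set.mem_iUnion.1 hz'
    exact ⟨i, eq_gpt_of_coheight_le (hD i) hi h⟩

include hD hZ' hcodim hcover in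
theorem finite_gpt : {ξ : X | ξ ∈ 𝓩.support ∧ ∃ i, ξ = gpt (𝓓 i)}.Finite := by
  refine Snapper.finite_of_maximal 𝓩.support.2 (fun ξ h => h.1) ?_
  rintro _ ⟨-, i, rfl⟩ y hy hyx
  by_contra hne
  have hlt : gpt (𝓓 i) < y := lt_of_le_not_ge hyx fun h' => hne (hyx.antisymm (show gpt (𝓓 i) ⤳ y from h')).eq
  have h1 : Order.coheight y + 1 ≤ 1 := (Order.coheight_add_one_le hlt).trans (coheight_gpt_le (hD i))
  have h0 : Order.coheight y = 0 := eq_zero_of_add_one_le h1
  obtain ⟨j, hj⟩ := exists_eq_gpt 𝓩 𝓓 hD Z' hZ' hcodim hcover hy (by rw [h0]; exact zero_le_one)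
  have := one_le_coheight_gpt (hD j)
  rw [← hj, h0] at this
  exact absurd this (by decide)

include hD hZ' hcodim hcover in
/-- The order of `Z` along one of the divisors is finite. -/
theorem exists_stalkIdeal_eq_pow {i : I} :
    ∃ n : ℕ, stalkIdeal 𝓩 (gpt (𝓓 i)) = stalkIdeal (𝓓 i) (gpt (𝓓 i)) ^ n := by
  set ξ := gpt (𝓓 i) with hξ
  obtain ⟨t, ht, ht'⟩ := exists_stalk_generator (hD i) ξ
  haveI : IsNoetherianRing (X.presheaf.stalk ξ) := inferInstance
  have hne : stalkIdeal 𝓩 ξ ≠ ⊥ := by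
    intro hbot
    haveI : Nonempty (PrimeSpectrum (X.presheaf.stalk ξ)) := inferInstance
    obtain ⟨p, hp, -⟩ := Ideal.exists_minimalPrimes_le (bot_le : (⊥ : Ideal (X.presheaf.stalk ξ)) ≤ maximalIdeal _)
    haveI hpp : p.IsPrime := hp.1.1
    have htp : t ∉ p := fun h => (Set.disjoint_left.1
      (Ideal.disjoint_nonZeroDivisors_of_mem_minimalPrimes hp) h) ht
    let y := X.fromSpecStalk ξ ⟨p, hpp⟩
    have hy : y ⤳ ξ := by
      have := Set.mem_range_self (f := X.fromSpecStalk ξ) ⟨p, hpp⟩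
      rwa [Scheme.range_fromSpecStalk] at this
    have hyne : y ≠ ξ := fun h => htp (by
      have e : (⟨p, hpp⟩ : Spec (X.presheaf.stalk ξ)) = IsLocalRing.closedPoint (X.presheaf.stalk ξ) := by
        refine (X.fromSpecStalk ξ).isEmbedding.injective ?_
        rw [Scheme.fromSpecStalk_closedPoint]; exact h
      have : p = maximalIdeal _ := congrArg PrimeSpectrum.asIdeal e
      rw [this, ← stalkIdeal_gpt, ht']
      exact Ideal.mem_span_singleton_self t)
    have hyZ : y ∈ 𝓩.support := by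
      by_contra h
      have h2 := stalkIdeal_map_specializes 𝓩 hy
      rw [hbot, Ideal.map_bot, (stalkIdeal_eq_top_iff 𝓩 y).2 h] at h2
      exact bot_ne_top h2
    have hlt : ξ < y := lt_of_le_not_ge hy fun h' => hyne (hy.antisymm (show ξ ⤳ y from h')).eq
    have h0 : Order.coheight y = 0 :=
      eq_zero_of_add_one_le ((Order.coheight_add_one_le hlt).trans (coheight_gpt_le (hD i)))
    obtain ⟨j, hj⟩ := exists_eq_gpt 𝓩 𝓓 hD Z' hZ' hcodim hcover hyZ (by rw [h0]; exact zero_le_one)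
    have := one_le_coheight_gpt (hD j)
    rw [← hj, h0] at this
    exact absurd this (by decide)
  -- every nonzero ideal of the local ring is a power of the maximal ideal
  obtain ⟨n, hn⟩ : ∃ n, ¬ stalkIdeal 𝓩 ξ ≤ Ideal.span {t} ^ (n + 1) := by
    by_contra h
    push Not at h
    refine hne (eq_bot_iff.2 fun f hf => ?_)
    have hb := Ideal.iInf_pow_eq_bot_of_isLocalRing (Ideal.span {t})
      (by rw [← ht']; exact fun h => (stalkIdeal_eq_top_iff _ _).1 h gpt_mem_support)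
    rw [← hb, Submodule.mem_iInf]
    exact fun n => Ideal.pow_le_pow_right n.le_succ (h n hf)
  classical
  have hex : ∃ n, ¬ stalkIdeal 𝓩 ξ ≤ Ideal.span {t} ^ (n + 1) := ⟨n, hn⟩
  refine ⟨Nat.find hex, ?_⟩
  rw [ht']
  have hle : stalkIdeal 𝓩 ξ ≤ Ideal.span {t} ^ Nat.find hex := by
    rcases Nat.eq_zero_or_pos (Nat.find hex) with h | h
    · rw [h, pow_zero, Ideal.one_eq_top]; exact le_top
    · have := Nat.find_min hex (show Nat.find hex - 1 < Nat.find hex by omega)
      rw [not_not, Nat.sub_add_cancel h] at this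
      exact this
  refine le_antisymm hle ?_
  obtain ⟨f, hf, hfn⟩ := SetLike.not_le_iff_exists.1 (Nat.find_spec hex)
  have hfm := hle hf
  rw [Ideal.span_singleton_pow, Ideal.mem_span_singleton] at hfm hfn
  rw [Ideal.span_singleton_pow]
  obtain ⟨v, rfl⟩ := hfm
  have hv : IsUnit v := by
    by_contra hv
    have hv' : v ∈ Ideal.span {t} := by rw [← ht', stalkIdeal_gpt]; exact hv
    obtain ⟨c, rfl⟩ := Ideal.mem_span_singleton.1 hv'
    exact hfn ⟨c, by ring⟩
  rw [Ideal.span_singleton_le_iff_mem]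
  exact (Ideal.mul_unit_mem_iff_mem _ hv).1 hf

open Classical in
include hD hZ' hcodim hcover in
/-- **The divisorial part.** -/
theorem exists_divisorial_part :
    ∃ a : I →₀ ℕ, 𝓩 ≤ a.prod (fun i n => 𝓓 i ^ n) ∧
      ∃ U : X.Opens, (a.prod (fun i n => 𝓓 i ^ n)).comap U.ι = 𝓩.comap U.ι ∧
        ∀ z ∈ (𝓩.support : Set ↥X) \ (U : Set ↥X), (2 : WithBot ℕ∞) ≤ ringKrullDim ↑(X.presheaf.stalk z) := by
  have hfin := finite_gpt 𝓩 𝓓 hD Z' hZ' hcodim hcover
  let T := hfin.toFinset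
  have hT : ∀ ξ : T, ∃ i, (ξ : X) = gpt (𝓓 i) := fun ξ => (hfin.mem_toFinset.1 ξ.2).2
  choose r hr using hT
  have hrinj : Function.Injective r := fun p q h => Subtype.ext (by rw [hr p, hr q, h])
  choose m hm using fun i : I => exists_stalkIdeal_eq_pow 𝓩 𝓓 hD Z' hZ' hcodim hcover (i := i)
  let S : Finset I := Finset.univ.image r
  let a : I →₀ ℕ := ∑ i ∈ S, Finsupp.single i (m i)
  have ha : ∀ i, a i = if i ∈ S then m i else 0 := fun i => by
    simp only [a, Finsupp.finsetSum_apply, Finsupp.single_apply, Finset.sum_ite_eq']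
  have hP : a.prod (fun i n => 𝓓 i ^ n) = ∏ i ∈ S, 𝓓 i ^ m i := by
    rw [Finsupp.prod_of_support_subset a (s := S) (fun i hi => by
      by_contra h; rw [Finsupp.mem_support_iff, ha, if_neg h] at hi; exact hi rfl) _ fun i _ => pow_zero _]
    exact Finset.prod_congr rfl fun i hi => by rw [ha, if_pos hi]
  refine ⟨a, ?_⟩
  rw [hP]
  set P := ∏ i ∈ S, 𝓓 i ^ m i with hPdef
  have hPst : ∀ x, stalkIdeal P x = ∏ i ∈ S, stalkIdeal (𝓓 i) x ^ m i := fun x => by
    show stalkHom x P = _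
    rw [hPdef, map_prod]
    exact Finset.prod_congr rfl fun i _ => map_pow (stalkHom x) _ _
  have hle : 𝓩 ≤ P := by
    refine le_of_stalkIdeal fun x f hf => ?_
    choose t ht ht' using fun i => exists_stalk_generator (hD i) x
    have e : (∏ i ∈ S, stalkIdeal (𝓓 i) x ^ m i) = Ideal.span {∏ i ∈ S, t i ^ m i} := by
      rw [← Ideal.prod_span_singleton]
      exact Finset.prod_congr rfl fun i _ => by rw [ht' i, Ideal.span_singleton_pow]
    rw [hPst x, e]
    have hsup : ∀ i, ¬ IsUnit (t i) → x ∈ (𝓓 i).support := fun i hu => by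
      by_contra h
      exact hu (Ideal.span_singleton_eq_top.1 ((ht' i).symm.trans ((stalkIdeal_eq_top_iff _ _).2 h)))
    refine mem_span_prod S t m f (fun i _ => ht i) (fun i _ => ?_) (fun i hi l hl hui hul heq => ?_) fun i _ => ?_
    · by_cases hu : IsUnit (t i)
      · exact Or.inr hu
      · exact Or.inl (ht' i ▸ stalkIdeal_isPrime (hsup i hu))
    · have hmem : ∀ p q : I, x ∈ (𝓓 p).support → stalkIdeal (𝓓 p) x = stalkIdeal (𝓓 q) x →
          gpt (𝓓 p) ∈ (𝓓 q).support := fun p q hp hpq => by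
        by_contra h
        have h2 := stalkIdeal_map_specializes (𝓓 q) (gpt_specializes_iff.2 hp)
        rw [← hpq, stalkIdeal_map_specializes (𝓓 p) (gpt_specializes_iff.2 hp),
          (stalkIdeal_eq_top_iff (𝓓 q) _).2 h] at h2
        exact (stalkIdeal_eq_top_iff (𝓓 p) _).1 h2 gpt_mem_support
      have heq' : stalkIdeal (𝓓 i) x = stalkIdeal (𝓓 l) x := by rw [ht' i, ht' l, heq]
      have hg : gpt (𝓓 i) = gpt (𝓓 l) := (Specializes.antisymm
        (gpt_specializes_iff.2 (hmem l i (hsup l hul) heq'.symm))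
        (gpt_specializes_iff.2 (hmem i l (hsup i hui) heq'))).eq
      obtain ⟨p, -, rfl⟩ := Finset.mem_image.1 hi
      obtain ⟨q, -, rfl⟩ := Finset.mem_image.1 hl
      exact congrArg r (Subtype.ext (by rw [hr p, hr q, hg]))
    · by_cases hu : IsUnit (t i)
      · rw [Ideal.span_singleton_eq_top.2 (hu.pow _)]; trivial
      have hsp := gpt_specializes_iff.2 (hsup i hu)
      have h1 : X.presheaf.stalkSpecializes hsp f ∈
          Ideal.span {X.presheaf.stalkSpecializes hsp (t i ^ m i)} := by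
        have h2 : X.presheaf.stalkSpecializes hsp f ∈ stalkIdeal 𝓩 (gpt (𝓓 i)) := by
          rw [← stalkIdeal_map_specializes 𝓩 hsp]; exact Ideal.mem_map_of_mem _ hf
        rw [hm i, ← stalkIdeal_map_specializes (𝓓 i) hsp, ht' i, Ideal.map_span, Set.image_singleton,
          Ideal.span_singleton_pow, ← map_pow] at h2
        exact h2
      obtain ⟨s, hs, hsf⟩ := exists_of_mem_span_stalkSpecializes hsp h1
      refine mem_span_pow_of_mul_mem (ht i) (ht' i ▸ stalkIdeal_isPrime (hsup i hu)) (fun hst => hs ?_) hsf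
      rw [Ideal.mem_comap, ← stalkIdeal_gpt, ← stalkIdeal_map_specializes (𝓓 i) hsp]
      exact Ideal.mem_map_of_mem _ (ht' i ▸ hst)
  refine ⟨hle, ⟨{x | ∃ V : X.Opens, x ∈ V ∧ ∀ y ∈ V, stalkIdeal 𝓩 y = stalkIdeal P y}, ?_⟩, ?_, ?_⟩
  · exact isOpen_iff_forall_mem_open.2 fun x ⟨V, hx, hV⟩ => ⟨V, fun y hy => ⟨V, hy, hV⟩, V.2, hx⟩
  · refine le_antisymm (le_of_stalkIdeal fun y => ?_) (le_of_stalkIdeal fun y => ?_)
    all_goals
      obtain ⟨V, hy, hV⟩ := y.2
      rw [stalkIdeal_comap, stalkIdeal_comap]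
    · exact le_of_eq (congrArg (Ideal.map _) (hV _ hy).symm)
    · exact le_of_eq (congrArg (Ideal.map _) (hV _ hy))
  · rintro z ⟨hz, hzU⟩
    rw [ringKrullDim_stalk_eq_coheight]
    by_contra hlt
    have hco : Order.coheight z ≤ 1 := by
      by_contra h
      push Not at h
      exact hlt (WithBot.coe_le_coe.2 (show (2 : ℕ∞) ≤ Order.coheight z by
        simpa [one_add_one_eq_two] using Order.add_one_le_of_lt h))
    obtain ⟨i, rfl⟩ := exists_eq_gpt 𝓩 𝓓 hD Z' hZ' hcodim hcover hz hco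
    have hξT : gpt (𝓓 i) ∈ T := hfin.mem_toFinset.2 ⟨hz, i, rfl⟩
    refine hzU (exists_nhd_stalkIdeal_eq hle ?_)
    obtain ⟨l, hl⟩ : ∃ l, l = r ⟨gpt (𝓓 i), hξT⟩ := ⟨_, rfl⟩
    have hli : gpt (𝓓 i) = gpt (𝓓 l) := by rw [hl]; exact hr ⟨_, hξT⟩
    have hlS : l ∈ S := hl ▸ Finset.mem_image_of_mem _ (Finset.mem_univ _)
    rw [hPst, hli, hm l, Finset.prod_eq_single l]
    · intro q hq hne
      by_cases hmem : gpt (𝓓 l) ∈ (𝓓 q).support
      · exfalso
        have hql := eq_gpt_of_coheight_le (hD q) hmem (coheight_gpt_le (hD l))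
        obtain ⟨p, -, rfl⟩ := Finset.mem_image.1 hq
        exact hne (hl ▸ congrArg r (Subtype.ext ((hr p).trans (hql.symm.trans hli.symm))))
      · rw [(stalkIdeal_eq_top_iff _ _).2 hmem, ← Ideal.one_eq_top, one_pow]
    · exact fun h => absurd hlS h

end GrothLib.DivPart
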